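import Groth.Agent.IdealTransLib.Derived
import Groth.Agent.DRingLib.Rgamma
import Mathlib.CategoryTheory.Abelian.Injective.Extend
import Mathlib.Algebra.Homology.Embedding.ExtendHomology

/-!
The cohomology of `RΓ_I(M)` is local cohomology.
-/

set_option autoImplicit false
set_option linter.style.haveILetI false

universe u v u'

open CategoryTheory CategoryTheory.Limits HomologicalComplex LocCoh

attribute [local instance] HasDerivedCategory.standard

noncomputable section

namespace LcCompLib

open Groth.Agent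

section Extend

variable {C : Type u'} [Category.{v} C] [Abelian C] {D : Type u'} [Category.{v} D] [Abelian D]
  (S : C ⥤ D) [S.Additive]

theorem conj_comm {X X' Y Y' W Z : D} (a : X ⟶ Y) (b : W ≅ Y) (d : Y ⟶ Y') (c : Z ≅ Y') (a'' : Y' ⟶ X')
    (a' : X' ⟶ Y') (h : a'' ≫ a' = 𝟙 Y') :
    (a ≫ b.inv) ≫ b.hom ≫ d ≫ c.inv = (a ≫ d ≫ a'') ≫ a' ≫ c.inv := by
  simp only [Category.assoc, Iso.inv_hom_id_assoc]
  rw [reassoc_of% h]

def mapExtendXIso (K : CochainComplex C ℕ) (n : ℤ) :
    S.obj ((K.extend ComplexShape.embeddingUpNat).X n) ≅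
      (((S.mapHomologicalComplex _).obj K).extend ComplexShape.embeddingUpNat).X n :=
  if h : 0 ≤ n then
    S.mapIso (K.extendXIso ComplexShape.embeddingUpNat (i := n.toNat) (by simp; lia)) ≪≫
      (((S.mapHomologicalComplex _).obj K).extendXIso ComplexShape.embeddingUpNat (i := n.toNat)
        (by simp; lia)).symm
  else
    (S.map_isZero (K.isZero_extend_X ComplexShape.embeddingUpNat n (by intro i hi; simp at hi; lia))).iso
      (((S.mapHomologicalComplex _).obj K).isZero_extend_X ComplexShape.embeddingUpNat n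
        (by intro i hi; simp at hi; lia))

/-- Extension by zero commutes with additive functors. -/
def mapExtendIso (K : CochainComplex C ℕ) :
    (S.mapHomologicalComplex _).obj (K.extend ComplexShape.embeddingUpNat) ≅
      ((S.mapHomologicalComplex _).obj K).extend ComplexShape.embeddingUpNat :=
  HomologicalComplex.Hom.isoOfComponents (mapExtendXIso S K) (by
    rintro n _ rfl
    by_cases h : 0 ≤ n
    · have h' : 0 ≤ n + 1 := by lia
      have hi : ComplexShape.embeddingUpNat.f n.toNat = n := by simp; lia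
      have hj : ComplexShape.embeddingUpNat.f (n + 1).toNat = n + 1 := by simp; lia
      simp only [mapExtendXIso, dif_pos h', dif_pos h, Functor.mapHomologicalComplex_obj_d,
        K.extend_d_eq ComplexShape.embeddingUpNat hi hj,
        HomologicalComplex.extend_d_eq _ ComplexShape.embeddingUpNat hi hj]
      simp only [S.map_comp, Iso.trans_hom, Iso.symm_hom, Functor.mapIso_hom]
      exact conj_comm _ _ _ _ _ _ ((S.map_comp _ _).symm.trans
        ((congrArg S.map (Iso.inv_hom_id _)).trans (S.map_id _)))
    · exact (S.map_isZero (K.isZero_extend_X ComplexShape.embeddingUpNat n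
        (by intro i hi; simp at hi; lia))).eq_of_src _ _)

end Extend

variable {A : Type u} [CommRing A] [IsNoetherianRing A] (I : Ideal A) [DRing.HasRgammaI I]

/-- `H^i(RΓ_I M) ≅ H^i_I(M)`, and `RΓ_I M` lives in nonnegative degrees. -/
theorem nonempty_HD_RgammaI_inD (M : Type u) [AddCommGroup M] [Module A M] :
    (∀ i : ℕ, Nonempty (Dual.HD A ((DRing.RgammaI I).obj (Dual.inD A M)) i ≃ₗ[A] LocCoh.H I i M)) ∧
      ∀ i : ℤ, i < 0 → Subsingleton (Dual.HD A ((DRing.RgammaI I).obj (Dual.inD A M)) i) := by
  let R := injectiveResolution (ModuleCat.of A M)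
  let E := R.cochainComplex
  haveI : E.IsKInjective := CochainComplex.isKInjective_of_injective E 0
  let α := (DRing.gammaIKh I).totalRightDerivedUnit DerivedCategory.Qh
    (HomotopyCategory.quasiIso (ModuleCat.{u} A) (ComplexShape.up ℤ))
  haveI := DerLib.KInjDerived.isIso_app (DRing.RgammaI I) α (DerLib.KInjDerived.enoughKInj _) E
  let G := ((DRing.gammaI I).mapHomologicalComplex (ComplexShape.up ℤ)).obj E
  let eE : DerivedCategory.Q.obj E ≅ Dual.inD A M := (asIso (DerivedCategory.Q.map R.ι')).symm
  let eR : (DRing.RgammaI I).obj (Dual.inD A M) ≅ DerivedCategory.Q.obj G :=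
    (DRing.RgammaI I).mapIso ((DerivedCategory.quotientCompQhIso _).app E ≪≫ eE).symm ≪≫
      (asIso (α.app ((HomotopyCategory.quotient _ _).obj E))).symm ≪≫
      DerivedCategory.Qh.mapIso (((DRing.gammaI I).mapHomotopyCategoryFactors (ComplexShape.up ℤ)).app E) ≪≫
      (DerivedCategory.quotientCompQhIso _).app G
  let eH : ∀ q : ℤ, (DerivedCategory.homologyFunctor (ModuleCat.{u} A) q).obj
      ((DRing.RgammaI I).obj (Dual.inD A M)) ≅ G.homology q := fun q =>
    (DerivedCategory.homologyFunctor _ q).mapIso eR ≪≫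
      (DerivedCategory.homologyFunctorFactors (ModuleCat.{u} A) q).app G
  let C := ((DRing.gammaI I).mapHomologicalComplex (ComplexShape.up ℕ)).obj R.cocomplex
  let eG : G ≅ C.extend ComplexShape.embeddingUpNat := mapExtendIso (DRing.gammaI I) R.cocomplex
  refine ⟨fun i => ?_, fun q hq => ?_⟩
  · exact ⟨(eH i ≪≫ (HomologicalComplex.homologyFunctor _ _ (i : ℤ)).mapIso eG ≪≫
      C.extendHomologyIso ComplexShape.embeddingUpNat (j := i) (j' := (i : ℤ)) (by simp) ≪≫
      (R.isoRightDerivedObj (DRing.gammaI I) i).symm ≪≫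
      (IdealTransLib.rdGammaIso I i).app (ModuleCat.of A M)).toLinearEquiv⟩
  · refine ModuleCat.subsingleton_of_isZero (IsZero.of_iso ?_ (eH q))
    exact (HomologicalComplex.exactAt_iff_isZero_homology _ _).1 (ShortComplex.exact_of_isZero_X₂ _
      ((DRing.gammaI I).map_isZero (CochainComplex.isZero_of_isStrictlyGE E 0 q hq)))

end LcCompLib

end
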