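import Groth.Agent.S1814
import Groth.Agent.S1816
import Groth.Agent.LcCompLib.Bridge
import Groth.Agent.DCompLib.LQuot
import Groth.Agent.DRingLib.Devissage
import Groth.Agent.DerLib.NilpTest

/-!
Derived completion lowers the range of annihilation by the cohomological dimension.
-/

set_option autoImplicit false
set_option linter.style.haveILetI false
set_option maxHeartbeats 800000

universe u

open CategoryTheory CategoryTheory.Limits LocCoh
open CategoryTheory.Pretriangulated (Triangle)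

attribute [local instance] HasDerivedCategory.standard

noncomputable section

namespace LcCompLib

open Groth.Agent Groth.Agent.DRingLib Groth.Agent.DCompLib
open Groth.Agent.DerLib.NilpTest (Nilp nilp_of_iso nilp_shift)

variable {A : Type u} [CommRing A]

theorem devissable_nilp (f : A) : Devissable (R := A) fun X => Nilp f X where
  iso e h := nilp_of_iso e h
  zero h := ⟨0, h.eq_of_src _ _⟩
  ext T hT h₁ h₃ := by
    obtain ⟨a, ha⟩ := h₁
    obtain ⟨b, hb⟩ := h₃
    refine ⟨a + b, ?_⟩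
    have h2 : (f ^ b • 𝟙 T.obj₂) ≫ T.mor₂ = 0 := by
      rw [Linear.smul_comp, Category.id_comp, ← Category.comp_id T.mor₂, ← Linear.comp_smul, hb, comp_zero]
    obtain ⟨t, ht⟩ := Triangle.coyoneda_exact₂ _ hT _ h2
    rw [pow_add, mul_smul, ht, ← Linear.smul_comp, ← Category.comp_id t, ← Linear.comp_smul,
      Category.assoc]
    have : (f ^ a • 𝟙 T.obj₁) = 0 := ha
    rw [← Category.assoc, this, comp_zero, zero_comp]

/-- Killed bounded objects are nilpotent. -/
theorem nilp_of_killed (f : A) (c : ℤ) (k : ℕ) (X : Dual.D A)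
    (hX : ∀ j, (j < c ∨ c + k ≤ j) → IsZero ((Hn A j).obj X)) (hf : ∀ j, ∀ x : Dual.HD A X j, f • x = 0) :
    Nilp f X := by
  refine (devissable_nilp f).of_homology c k X hX fun j => ⟨1, ?_⟩
  rw [pow_one, ← CategoryTheory.Functor.map_id, ← Functor.map_smul,
    show f • 𝟙 ((Hn A j).obj X) = 0 from ModuleCat.hom_ext (LinearMap.ext fun x => hf j x), Functor.map_zero]

variable [IsNoetherianRing A] {I : Ideal A} [DRing.HasDerivedCompletion I]

/-- The local cohomology of the ring bounds the torsion coreflection. -/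
theorem isLE_coref {d : ℕ} (hd : LocCoh.CdLE A I d) {l : List A} (hl : Ideal.span {a | a ∈ l} = I)
    {R : Dual.D A} {u : R ⟶ Dual.inD A A} (hu : IsCoref l u) : R.IsLE (d : ℤ) := by
  haveI : DRing.HasRgammaI I :=
    DerLib.KInjDerived.hasRightDerivedFunctor _ (DerLib.KInjDerived.enoughKInj _)
  obtain ⟨e, -⟩ := hu.exists_iso (isCoref_RgammaIε l I hl (Dual.inD A A))
  rw [DerivedCategory.isLE_iff]
  intro j hj
  obtain ⟨i, rfl⟩ : ∃ i : ℕ, j = i := ⟨j.toNat, by omega⟩
  obtain ⟨eb⟩ := (nonempty_HD_RgammaI_inD I A).1 i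
  haveI := hd A i (by omega)
  haveI : Subsingleton (Dual.HD A ((DRing.RgammaI I).obj (Dual.inD A A)) (i : ℤ)) :=
    eb.injective.subsingleton
  exact (ModuleCat.isZero_of_subsingleton
    ((DerivedCategory.homologyFunctor _ (i : ℤ)).obj ((DRing.RgammaI I).obj (Dual.inD A A)))).of_iso
      ((DerivedCategory.homologyFunctor _ (i : ℤ)).mapIso e)

/-- Annihilation of the completion. -/
theorem exists_pow_kill_completion {d : ℕ} (hd : LocCoh.CdLE A I d) (f : A) (t : ℕ) (X : Dual.D A)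
    (hneg : ∀ j : ℤ, j < 0 → Subsingleton (Dual.HD A X j))
    (hf : ∀ j : ℕ, j ≤ t → ∀ x : Dual.HD A X j, f • x = 0) :
    ∃ k : ℕ, ∀ i : ℤ, i + d ≤ t → ∀ x : Dual.HD A ((cF I).obj X) i, f ^ k • x = 0 := by
  obtain ⟨l, hl⟩ := exists_list_span' I
  have hl' : ∀ g ∈ l, g ∈ I := fun g hg => hl ▸ Ideal.subset_span hg
  obtain ⟨R, u, hu, hperp⟩ := Groth.Agent.S1814.exists_coref_perp l hl' (Dual.inD A A)
  haveI hRle : R.IsLE (d : ℤ) := isLE_coref hd hl hu
  obtain ⟨X₁, X₂, hX₁, hX₂, a, b, δ, hT⟩ :=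
    DerivedCategory.TStructure.t.exists_triangle X (t : ℤ) ((t : ℤ) + 1) rfl
  haveI hX₁le : X₁.IsLE (t : ℤ) := ⟨hX₁⟩
  haveI hX₂ge : X₂.IsGE ((t : ℤ) + 1) := ⟨hX₂⟩
  obtain ⟨k, hk⟩ : Nilp f X₁ := by
    have hY0 : ∀ j, j ≤ (t : ℤ) → IsZero ((Hn A j).obj X₂) := fun j hj =>
      DerivedCategory.isZero_of_isGE X₂ ((t : ℤ) + 1) j (by omega)
    have ha : ∀ j, j ≤ (t : ℤ) → IsIso ((Hn A j).map a) := fun j hj => by
      have := (DerivedCategory.HomologySequence.mono_homologyMap_mor₁_iff _ hT (j - 1) j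
        (by omega)).mpr ((hY0 (j - 1) (by omega)).eq_of_src _ _)
      have := (DerivedCategory.HomologySequence.epi_homologyMap_mor₁_iff _ hT j).mpr
        ((hY0 j hj).eq_of_tgt _ _)
      exact isIso_of_mono_of_epi ((Hn A j).map (Triangle.mk a b δ).mor₁)
    refine nilp_of_killed f 0 (t + 1) X₁ (fun j hj => ?_) fun j x => ?_
    · rcases hj with hj | hj
      · haveI := ha j (by omega)
        haveI := hneg j hj
        exact (ModuleCat.isZero_of_subsingleton ((Hn A j).obj X)).of_iso (asIso ((Hn A j).map a))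
      · exact DerivedCategory.isZero_of_isLE X₁ (t : ℤ) j (by omega)
    · by_cases hj : j ≤ (t : ℤ)
      · haveI := ha j hj
        refine (asIso ((Hn A j).map a)).toLinearEquiv.injective ?_
        rw [map_smul, map_zero]
        by_cases hj0 : j < 0
        · haveI := hneg j hj0
          exact Subsingleton.elim (α := Dual.HD A X j) _ _
        · obtain ⟨i, rfl⟩ : ∃ i : ℕ, j = i := ⟨j.toNat, by omega⟩
          exact hf i (by omega) _
      · haveI := ModuleCat.subsingleton_of_isZero (DerivedCategory.isZero_of_isLE X₁ (t : ℤ) j (by omega))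
        exact Subsingleton.elim _ _
  refine ⟨k, fun i hi x => ?_⟩
  let Y := ((cF I).obj X)⟦i⟧
  let η := DRing.toDerivedCompletion I X
  obtain ⟨B, q, hB, hBY, hBT⟩ := Groth.Agent.S1814.exists_decomp_tors l hl' (X⟦i⟧)
  have hq : IsRefl I q := ⟨hl ▸ isDerivedComplete_span_iff.2 hB, hBY⟩
  have hs : IsRefl I (η⟦i⟧') := (isRefl_unit X).shift i
  obtain ⟨a', ha'⟩ := (hq.2 _ hs.1).2 (η⟦i⟧')
  obtain ⟨b', hb'⟩ := (hs.2 _ hq.1).2 q
  simp only at ha' hb'
  have hba : b' ≫ a' = 𝟙 _ := (hs.2 _ hs.1).1 (by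
    simp only []
    rw [← Category.assoc, hb', ha', Category.comp_id])
  have key : ∀ g : Dual.inD A A ⟶ Y, f ^ k • g = 0 := fun g => by
    obtain ⟨w, hw⟩ := (hBT R hu.1).2 (u ≫ g ≫ b')
    have hw1 : w ≫ η⟦i⟧' = u ≫ g := by
      have : (w ≫ q) ≫ a' = (u ≫ g ≫ b') ≫ a' := congrArg (· ≫ a') hw
      rw [Category.assoc, ha', Category.assoc, Category.assoc, hba] at this
      exact this.trans (congrArg (u ≫ ·) (Category.comp_id g))
    haveI : (X₂⟦i⟧).IsGE ((t : ℤ) + 1 - i) :=
      DerivedCategory.TStructure.t.isGE_shift X₂ ((t : ℤ) + 1) i _ (by omega)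
    have hzero : w ≫ b⟦i⟧' = 0 :=
      DerivedCategory.TStructure.t.zero _ (d : ℤ) ((t : ℤ) + 1 - i) (by omega)
    have hab : ∃ w' : R ⟶ X₁⟦i⟧, w = w' ≫ a⟦i⟧' := by
      obtain ⟨w', hw'⟩ := Triangle.coyoneda_exact₂ _ (Triangle.shift_distinguished _ hT i) w (by
        change w ≫ (i.negOnePow • b⟦i⟧') = 0
        rw [Linear.comp_units_smul, hzero, smul_zero])
      exact ⟨i.negOnePow • w', hw'.trans ((Linear.comp_units_smul w' i.negOnePow (a⟦i⟧')).trans
        (Linear.units_smul_comp i.negOnePow w' (a⟦i⟧')).symm)⟩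
    obtain ⟨w', rfl⟩ := hab
    have hw0 : f ^ k • (u ≫ g) = 0 := by
      rw [← hw1, ← Linear.smul_comp, ← Linear.smul_comp, ← Category.comp_id w', ← Linear.comp_smul,
        ← DerLib.NilpTest.smul_shift, hk, Functor.map_zero, comp_zero, zero_comp, zero_comp]
    refine (hperp Y hs.1).1 (?_ : u ≫ (f ^ k • g) = u ≫ 0)
    rw [Linear.comp_smul, hw0, comp_zero]
  let eS := (((DerivedCategory.homologyFunctor (ModuleCat.{u} A) 0).shiftIso i 0 i (by omega)).app
    ((cF I).obj X)).toLinearEquiv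
  obtain ⟨y, rfl⟩ := eS.surjective x
  have hy : f ^ k • y = 0 := by
    refine (map_smul_id (f ^ k) Y 0 y).symm.trans ?_
    obtain ⟨g, hg⟩ := (bijective_evH0 (ModuleCat.of A A) Y).2 (ModuleCat.ofHom (LinearMap.toSpanSingleton A _ y))
    have h2 := evH0_comp g (f ^ k • 𝟙 Y)
    rw [Linear.comp_smul, Category.comp_id, key g, hg] at h2
    have h3 := LinearMap.congr_fun (congrArg ModuleCat.Hom.hom h2) (1 : A)
    refine Eq.trans ?_ (h3.symm.trans ?_)
    · exact congrArg _ (one_smul A y).symm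
    · simp only [evH0, Functor.map_zero, comp_zero]
      rfl
  exact (map_smul eS _ y).symm.trans ((congrArg eS hy).trans (map_zero eS))

end LcCompLib

end
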