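import Groth.Agent.LcCompLib.Kill
import Groth.Agent.LcFinLib.SmallerIdeal
import Groth.Agent.S1765

/-!
Annihilation of the cohomology of derived completions of local cohomology.
-/

set_option autoImplicit false
set_option linter.style.haveILetI false
set_option maxHeartbeats 800000

universe u

open CategoryTheory CategoryTheory.Limits LocCoh

attribute [local instance] HasDerivedCategory.standard

noncomputable section

namespace LcCompLib

open Groth.Agent Groth.Agent.DRingLib Groth.Agent.DualCxLib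

variable {A : Type u} [CommRing A] [IsNoetherianRing A] (I J : Ideal A) [DRing.HasRgammaI J]
  [DRing.HasDerivedCompletion I] (M : Type u) [AddCommGroup M] [Module A M] [Module.Finite A M]

/-- An element killing `H_{J+I}` up to `d + s` kills the completion of `RΓ_J` up to `s`. -/
theorem exists_pow_kill_completion_Rgamma {d : ℕ} (hd : LocCoh.CdLE A I d) (f : A) (s : ℕ)
    (hf : ∀ i : ℕ, i ≤ d + s → ∀ x : LocCoh.H (J ⊔ I) i M, f • x = 0) :
    ∃ k : ℕ, ∀ i : ℤ, i ≤ s →
      ∀ x : Dual.HD A ((DRing.derivedCompletion I).obj ((DRing.RgammaI J).obj (Dual.inD A M))).obj i,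
        f ^ k • x = 0 := by
  haveI : DRing.HasRgammaI I :=
    DerLib.KInjDerived.hasRightDerivedFunctor _ (DerLib.KInjDerived.enoughKInj _)
  haveI : DRing.HasRgammaI (J ⊔ I) :=
    DerLib.KInjDerived.hasRightDerivedFunctor _ (DerLib.KInjDerived.enoughKInj _)
  let X := (DRing.RgammaI (J ⊔ I)).obj (Dual.inD A M)
  obtain ⟨e1⟩ := (Groth.Agent.S1814.result A I ((DRing.RgammaI J).obj (Dual.inD A M))).2
  obtain ⟨e2⟩ := Groth.Agent.S1816.result A J I (Dual.inD A M)
  obtain ⟨hb, hneg⟩ := nonempty_HD_RgammaI_inD (J ⊔ I) M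
  obtain ⟨k, hk⟩ := exists_pow_kill_completion (I := I) hd f (d + s) X hneg fun j hj x => by
    obtain ⟨e⟩ := hb j
    refine e.injective ?_
    rw [map_smul, map_zero]
    exact hf j hj _
  refine ⟨k, fun i hi x => ?_⟩
  let e : ((DRing.derivedCompletion I).obj ((DRing.RgammaI J).obj (Dual.inD A M))).obj ≅ (cF I).obj X :=
    (ObjectProperty.ι _).mapIso (e1.symm ≪≫ (DRing.derivedCompletion I).mapIso e2)
  refine ((DerivedCategory.homologyFunctor (ModuleCat.{u} A) i).mapIso e).toLinearEquiv.injective ?_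
  rw [map_smul, map_zero]
  exact hk i (by push_cast; omega) _

/-- Existence of the annihilator outside `p`. -/
theorem exists_notMem_kill (hdc : ∃ ω : Dual.D A, Dual.IsDualizing A ω) (p : PrimeSpectrum A) (s d : ℕ)
    (hd : LocCoh.CdLE A I d)
    (h : ∀ p' q : PrimeSpectrum A, p' ≤ p → p' ≤ q → J ≤ q.asIdeal → I ≤ q.asIdeal →
      (((d + s : ℕ) : ℕ∞) : WithBot ℕ∞) < ((LocCoh.depth (Localization.AtPrime p'.asIdeal)
        (LocalizedModule p'.asIdeal.primeCompl M) : ℕ∞) : WithBot ℕ∞) + Order.krullDim (Set.Icc p' q)) :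
    ∃ f : A, f ∉ p.asIdeal ∧ ∀ i : ℤ, i ≤ s →
      ∀ x : Dual.HD A ((DRing.derivedCompletion I).obj ((DRing.RgammaI J).obj (Dual.inD A M))).obj i,
        f • x = 0 := by
  obtain ⟨ω, hω⟩ := hdc
  have hT : StableUnderSpecialization (PrimeSpectrum.zeroLocus ((J ⊔ I : Ideal A) : Set A)) :=
    (PrimeSpectrum.isClosed_zeroLocus _).stableUnderSpecialization
  have hT' : StableUnderSpecialization {r : PrimeSpectrum A | ¬ r ≤ p} := fun x y hxy hx hy =>
    hx (((PrimeSpectrum.le_iff_specializes x y).2 hxy).trans hy)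
  obtain ⟨J', hJ', hk⟩ := LcFinLib.exists_ideal_kill hω M (LcFinLib.lcGD (J ⊔ I)) hT _ hT' (d + s)
    (fun p' q hp' hq hpq => h p' q (not_not.1 hp') hpq (le_sup_left.trans hq) (le_sup_right.trans hq))
  obtain ⟨f, hfJ, hfp⟩ := Set.not_subset.1 fun hle : (J' : Set A) ⊆ p.asIdeal => hJ' hle le_rfl
  obtain ⟨k, hk'⟩ := exists_pow_kill_completion_Rgamma I J M hd f s fun i hi x => hk i hi f hfJ x
  exact ⟨f ^ k, fun hm => hfp (p.isPrime.mem_of_pow_mem k hm), hk'⟩

/-- Depth grows at most by the dimension under generization. -/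
theorem lt_depth_add_of_le {ω : Dual.D A} (hω : Dual.IsDualizing A ω) {p' p m : PrimeSpectrum A}
    (h1 : p' ≤ p) (h2 : p ≤ m) (n : ℕ)
    (h : (n : WithBot ℕ∞) < ((LocCoh.depth (Localization.AtPrime p.asIdeal)
        (LocalizedModule p.asIdeal.primeCompl M) : ℕ∞) : WithBot ℕ∞) + Order.krullDim (Set.Icc p m)) :
    (n : WithBot ℕ∞) < ((LocCoh.depth (Localization.AtPrime p'.asIdeal)
        (LocalizedModule p'.asIdeal.primeCompl M) : ℕ∞) : WithBot ℕ∞) + Order.krullDim (Set.Icc p' m) := by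
  have hd1 := (deg_strictMono hω).monotone h1
  have hd2 := (deg_strictMono hω).monotone h2
  rw [LcFinLib.krullDim_Icc_eq hω h2] at h
  rw [LcFinLib.krullDim_Icc_eq hω (h1.trans h2)]
  set a := LocCoh.depth (Localization.AtPrime p.asIdeal) (LocalizedModule p.asIdeal.primeCompl M)
  set b := LocCoh.depth (Localization.AtPrime p'.asIdeal) (LocalizedModule p'.asIdeal.primeCompl M)
  set v := (deg hω m - deg hω p).toNat
  set v' := (deg hω m - deg hω p').toNat
  set c := (deg hω p - deg hω p').toNat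
  change ((n : ℕ∞) : WithBot ℕ∞) < (((a + (v : ℕ∞) : ℕ∞)) : WithBot ℕ∞) at h
  show ((n : ℕ∞) : WithBot ℕ∞) < (((b + (v' : ℕ∞) : ℕ∞)) : WithBot ℕ∞)
  rw [WithBot.coe_lt_coe] at h ⊢
  obtain ⟨q, hq, hqv⟩ : ∃ q : ℕ, (q : ℕ∞) ≤ a ∧ n < q + v := by
    by_cases ha : a = ⊤
    · exact ⟨n + 1, by rw [ha]; exact le_top, by omega⟩
    · obtain ⟨x, hx⟩ := ENat.ne_top_iff_exists.1 ha
      rw [← hx] at h
      exact ⟨x, le_of_eq hx, by exact_mod_cast h⟩
  have hvan := (le_depth_iff_van hω p q M).1 hq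
  have hb : ((q - c : ℕ) : ℕ∞) ≤ b := by
    refine (le_depth_iff_van hω p' (q - c) M).2 fun δ hδ => ?_
    have := Van.mono (p := p'.asIdeal) h1 (hvan (δ + c) (by omega))
    rwa [show deg hω p - ((δ + c : ℕ) : ℤ) = deg hω p' - (δ : ℤ) by push_cast; omega] at this
  refine lt_of_lt_of_le ?_ (add_le_add hb le_rfl)
  exact_mod_cast (show n < (q - c) + v' by omega)

end LcCompLib

end
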